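import Groth.Agent.Lib.GorFlat.Main
import Groth.Agent.Lib.Gor.InjDim
import Groth.Agent.Lib.Serre.Regular
import Groth.Agent.Lib.Excellent.FlatFibres
import Groth.Agent.Lib.LCI6.Syntomic

/-!
# Gorenstein rings: regular rings, flat maps and complete intersections
-/

set_option autoImplicit false
set_option linter.style.haveILetI false
universe u

open IsLocalRing RingTheory.Sequence CategoryTheory

namespace GrothLib.GorFlat

/-- Regular local rings are Gorenstein. -/
theorem gorenstein_of_isRegularLocalRing (R : Type u) [CommRing R] [IsRegularLocalRing R] :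
    LocCoh.IsGorensteinLocalRing R := by
  obtain ⟨d, hd⟩ := exists_dim_nat R
  haveI : HasProjectiveDimensionLT (ModuleCat.of R (R ⧸ maximalIdeal R)) (d + 1) :=
    Serre.pdLE_of_isRegularLocalRing R d hd _
  exact { exists_hasInjectiveDimensionLT := ⟨d + 1, Gor.hasInjectiveDimensionLT_of_residue _ fun i hi =>
    HasProjectiveDimensionLT.subsingleton _ (d + 1) i hi _⟩ }

theorem isGorensteinRing_of_isRegularRing (R : Type u) [CommRing R] [IsRegularRing R] :
    LocCoh.IsGorensteinRing R :=
  { isGorensteinLocalRing_localization := fun p _ => by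
      haveI : IsRegularLocalRing (Localization.AtPrime p) := IsRegularRing.isRegularLocalRing_localization p
      exact gorenstein_of_isRegularLocalRing _ }

theorem isGorensteinRing_of_ringEquiv {R S : Type u} [CommRing R] [CommRing S] (e : R ≃+* S)
    (h : LocCoh.IsGorensteinRing R) : LocCoh.IsGorensteinRing S :=
  haveI := h.toIsNoetherian
  haveI : IsNoetherianRing S := isNoetherianRing_of_ringEquiv R e
  { isGorensteinLocalRing_localization := fun p _ => by
      haveI := h.isGorensteinLocalRing_localization (p.comap (e : R →+* S))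
      refine (gorenstein_congr (IsLocalization.ringEquivOfRingEquiv (Localization.AtPrime (p.comap (e : R →+* S)))
        (Localization.AtPrime p) (M := (p.comap (e : R →+* S)).primeCompl) (T := p.primeCompl) e ?_)).1 inferInstance
      ext x
      simp only [Submonoid.mem_map]
      constructor
      · rintro ⟨y, hy, rfl⟩; exact hy
      · intro hx
        exact ⟨e.symm x, by simpa [Ideal.primeCompl] using hx, e.apply_symm_apply x⟩ }

/-- Dividing a local ring by a regular sequence. -/
theorem gorenstein_quot_ofList {R : Type u} [CommRing R] [IsLocalRing R] [IsNoetherianRing R] :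
    ∀ rs : List R, IsWeaklyRegular R rs → (∀ r ∈ rs, r ∈ maximalIdeal R) →
      (LocCoh.IsGorensteinLocalRing (R ⧸ Ideal.ofList rs) ↔ LocCoh.IsGorensteinLocalRing R) := by
  intro rs
  induction rs using List.reverseRecOn with
  | nil =>
    intro _ _
    exact gorenstein_congr ((Ideal.quotEquivOfEq (Ideal.ofList_nil)).trans (RingEquiv.quotientBot R))
  | append_singleton rs a ih =>
    intro hreg hmem
    obtain ⟨h1, h2⟩ := (isWeaklyRegular_append_iff R rs [a]).1 hreg
    have hm : ∀ r ∈ rs, r ∈ maximalIdeal R := fun r hr => hmem r (List.mem_append_left _ hr)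
    haveI := isLocalRing_quot (show Ideal.ofList rs ≤ maximalIdeal R from Ideal.span_le.2 hm)
    have ha : IsSMulRegular (R ⧸ Ideal.ofList rs) (Ideal.Quotient.mk (Ideal.ofList rs) a) := by
      have e := Submodule.quotEquivOfEq (Ideal.ofList rs • ⊤ : Submodule R R) (Ideal.ofList rs)
        (by rw [smul_eq_mul, Ideal.mul_top])
      intro z w hzw
      have h := ((isWeaklyRegular_singleton_iff _ a).1 h2) (a₁ := e.symm z) (a₂ := e.symm w)
      refine e.symm.injective (h ?_)
      show a • e.symm z = a • e.symm w
      rw [← map_smul, ← map_smul]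
      exact congrArg e.symm (by simpa [Algebra.smul_def] using hzw)
    rw [← ih h1 hm, ← gorenstein_quot_iff (mk_mem_maximalIdeal_iff.2 (hmem a (by simp))) ha]
    refine gorenstein_congr (((Ideal.quotEquivOfEq ?_).trans
      (DoubleQuot.quotQuotEquivQuotSup _ (Ideal.span {a})).symm).trans
      (Ideal.quotEquivOfEq (by rw [Ideal.map_span, Set.image_singleton])))
    rw [Ideal.ofList_append, Ideal.ofList_singleton]

/-- The flat criterion at a prime of a Noetherian algebra. -/
theorem gorenstein_atPrime_iff {A B : Type u} [CommRing A] [CommRing B] [Algebra A B] [IsNoetherianRing A]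
    [IsNoetherianRing B] [Module.Flat A B] (P : Ideal B) [P.IsPrime] :
    LocCoh.IsGorensteinLocalRing (Localization.AtPrime P) ↔
      (LocCoh.IsGorensteinLocalRing (Localization.AtPrime (P.comap (algebraMap A B))) ∧
        LocCoh.IsGorensteinLocalRing (EGA4.FibLocRing A B P)) := by
  let p := P.comap (algebraMap A B)
  haveI : P.LiesOver p := ⟨rfl⟩
  letI := Localization.AtPrime.algebraOfLiesOver p P
  haveI := Excellent.flat_localization (A := A) P p
  haveI : IsLocalHom (algebraMap (Localization.AtPrime p) (Localization.AtPrime P)) := by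
    refine ((IsLocalRing.local_hom_TFAE _).out 0 2).2 ?_
    rw [Excellent.map_maximalIdeal_eq P p]
    refine Ideal.map_le_iff_le_comap.2 fun x hx => ?_
    rw [Ideal.mem_comap, IsScalarTower.algebraMap_apply A B (Localization.AtPrime P),
      IsLocalization.AtPrime.to_map_mem_maximal_iff _ P]
    exact hx
  rw [gorenstein_flat_local_iff (Localization.AtPrime p) (Localization.AtPrime P)]
  exact and_congr_right' (gorenstein_congr (Ideal.quotEquivOfEq (Excellent.map_maximalIdeal_eq P p)))

/-- A polynomial ring over a Gorenstein ring is Gorenstein. -/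
theorem isGorensteinRing_mvPolynomial {A : Type u} [CommRing A] (hA : LocCoh.IsGorensteinRing A) (n : ℕ) :
    LocCoh.IsGorensteinRing (MvPolynomial (Fin n) A) := by
  haveI : IsNoetherianRing A := hA.toIsNoetherian
  refine { isGorensteinLocalRing_localization := fun P _ =>
    (gorenstein_atPrime_iff (A := A) P).2 ⟨hA.isGorensteinLocalRing_localization _, ?_⟩ }
  haveI : IsRegularRing ((P.comap (algebraMap A (MvPolynomial (Fin n) A))).Fiber (MvPolynomial (Fin n) A)) :=
    IsRegularRing.of_ringEquiv (MvPolynomial.algebraTensorAlgEquiv (σ := Fin n) A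
      (P.comap (algebraMap A (MvPolynomial (Fin n) A))).ResidueField).symm.toRingEquiv
  haveI := Excellent.isRegularLocalRing_fibLocRing (A := A) P inferInstance
  exact gorenstein_of_isRegularLocalRing _

/-- A Koszul regular ideal is generated by a regular sequence in the local rings. -/
theorem exists_isWeaklyRegular_of_kRegAt {Q : Type u} [CommRing Q] [IsNoetherianRing Q] {I : Ideal Q}
    (q : Ideal Q) [q.IsPrime] (hIq : I ≤ q) (h : LCI6.KRegAt I q) :
    ∃ l : List (Localization.AtPrime q), IsWeaklyRegular (Localization.AtPrime q) l ∧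
      (∀ r ∈ l, r ∈ maximalIdeal (Localization.AtPrime q)) ∧
      I.map (algebraMap Q (Localization.AtPrime q)) = Ideal.ofList l := by
  obtain ⟨g, hg, l, hl, hI⟩ := h
  obtain ⟨l', -, hl', hI'⟩ := LCI6.exists_atPrime_list g l hl hI q hg
  let L := Localization.AtPrime q
  have hmem : ∀ r ∈ l', r ∈ maximalIdeal L := fun r hr => by
    rw [← Localization.AtPrime.map_eq_maximalIdeal]
    exact Ideal.map_mono hIq (hI' ▸ Ideal.subset_span hr)
  have hH1 := GrothLib.SeqKinds.isH1Regular_of_isKoszulRegularSeq l' hl'
  refine ⟨l', ?_, hmem, hI'⟩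
  rw [← List.ofFn_get l']
  refine GrothLib.KoszulH1.isWeaklyRegular_of_separates _ (fun i => GrothLib.KoszulH1.separates_of_mem_jacobson
    (IsLocalRing.maximalIdeal_le_jacobson ⊥ (hmem _ (List.get_mem l' i)))) ?_
  intro m hm
  refine Submodule.span_le.2 ?_ (hH1 m (by rw [← hm]; exact Finset.sum_congr rfl fun i _ => mul_comm _ _))
  rintro _ ⟨i, j, rfl⟩
  exact Submodule.subset_span ⟨i, j, 1, by simp [← Pi.single_smul']⟩

/-- A presented algebra is Gorenstein at the points where the presentation is Koszul regular. -/
theorem gorenstein_atPrime_of_kRegAt {A B : Type u} [CommRing A] [CommRing B] [Algebra A B]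
    (hA : LocCoh.IsGorensteinRing A) {n : ℕ} (α : MvPolynomial (Fin n) A →ₐ[A] B) (hα : Function.Surjective α)
    (q : Ideal B) [q.IsPrime] (hI : LCI6.KRegAt (RingHom.ker α.toRingHom) (q.comap α.toRingHom)) :
    LocCoh.IsGorensteinLocalRing (Localization.AtPrime q) := by
  haveI : IsNoetherianRing A := hA.toIsNoetherian
  let Q := q.comap α.toRingHom
  haveI := (isGorensteinRing_mvPolynomial hA n).isGorensteinLocalRing_localization Q
  obtain ⟨l, hl, hmem, hIl⟩ := exists_isWeaklyRegular_of_kRegAt Q (LCI6.ker_le_comap _ _) hI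
  have hT : Submonoid.map α.toRingHom Q.primeCompl = q.primeCompl := by
    ext x
    constructor
    · rintro ⟨y, hy, rfl⟩; exact hy
    · intro hx
      obtain ⟨y, rfl⟩ := hα x
      exact ⟨y, hx, rfl⟩
  let ψ : Localization.AtPrime Q →+* Localization.AtPrime q :=
    IsLocalization.map (Localization.AtPrime q) α.toRingHom (T := q.primeCompl) (hT ▸ Q.primeCompl.le_comap_map)
  have hψ : Function.Surjective ψ := by
    intro z
    obtain ⟨⟨b, s⟩, rfl⟩ := IsLocalization.mk'_surjective q.primeCompl z
    obtain ⟨a, rfl⟩ := hα b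
    obtain ⟨t, ht, hts⟩ : (s : B) ∈ Submonoid.map α.toRingHom Q.primeCompl := hT.symm ▸ s.2
    refine ⟨IsLocalization.mk' _ a ⟨t, ht⟩, ?_⟩
    rw [IsLocalization.map_mk']
    congr 1
    exact Subtype.ext hts
  have hker : RingHom.ker ψ = Ideal.ofList l := by
    rw [← hIl]
    exact IsLocalization.ker_map _ _ hT
  exact (gorenstein_congr ((Ideal.quotEquivOfEq hker.symm).trans
    (RingHom.quotientKerEquivOfSurjective hψ))).1 ((gorenstein_quot_ofList l hl hmem).2 inferInstance)

/-- A complete intersection over a Gorenstein ring is Gorenstein. -/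
theorem isGorensteinRing_of_isLCI {A B : Type u} [CommRing A] [CommRing B] [Algebra A B]
    (hA : LocCoh.IsGorensteinRing A) (h : LCI.IsLCI A B) : LocCoh.IsGorensteinRing B := by
  haveI : IsNoetherianRing A := hA.toIsNoetherian
  obtain ⟨-, n, α, hα, hI⟩ := h
  rw [LCI6.isKoszulRegularIdeal_ker_iff _ hα] at hI
  haveI : IsNoetherianRing B := isNoetherianRing_of_surjective _ _ α.toRingHom hα
  exact { isGorensteinLocalRing_localization := fun q _ => gorenstein_atPrime_of_kRegAt hA α hα q (hI q inferInstance) }

/-- The fibres of a flat complete intersection map are Gorenstein. -/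
theorem isGorensteinRing_fiber_of_flat_isLCI {A B : Type u} [CommRing A] [CommRing B] [Algebra A B]
    [Module.Flat A B] (hl : LCI.IsLCI A B) (p : PrimeSpectrum A) :
    LocCoh.IsGorensteinRing (p.asIdeal.Fiber B) := by
  obtain ⟨-, -, hfib⟩ := LCI6.isSyntomic_iff.2 ⟨inferInstance, hl⟩
  exact isGorensteinRing_of_isLCI (isGorensteinRing_of_isRegularRing p.asIdeal.ResidueField)
    (LCI6.isLCIOver_iff_isLCI.1 (hfib p))

end GrothLib.GorFlat
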