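import Groth.Agent.Lib.GorFlat.Rings
import Groth.Agent.Lib.LCI6.DescentLCI
import Mathlib.FieldTheory.IntermediateField.Adjoin.Algebra

/-!
# Tensor products of fields with a finitely generated factor are Gorenstein
-/

set_option autoImplicit false
set_option linter.style.haveILetI false
universe u

open IsLocalRing TensorProduct

namespace GrothLib.GorFlat

/-- A presentation of a domain over a field is Koszul regular at the generic point. -/
theorem kRegAt_ker {k C : Type u} [Field k] [CommRing C] [IsDomain C] [Algebra k C] {n : ℕ}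
    (α : MvPolynomial (Fin n) k →ₐ[k] C) :
    LCI6.KRegAt (RingHom.ker α.toRingHom) (RingHom.ker α.toRingHom) := by
  haveI : (RingHom.ker α.toRingHom).IsPrime := RingHom.ker_isPrime _
  haveI : IsRegularLocalRing (Localization.AtPrime (RingHom.ker α.toRingHom)) :=
    IsRegularRing.isRegularLocalRing_localization _
  refine LCI6.kRegAt_of_regular _ _ ?_
  rw [Localization.AtPrime.map_eq_maximalIdeal]
  exact inferInstanceAs (IsRegularLocalRing (ResidueField (Localization.AtPrime (RingHom.ker α.toRingHom))))

theorem flat_mvPolynomial_map (k K : Type u) [CommRing k] [CommRing K] [Algebra k K] [Module.Flat k K] (n : ℕ) :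
    (MvPolynomial.map (σ := Fin n) (algebraMap k K)).Flat := by
  letI := MvPolynomial.algebraMvPolynomial (σ := Fin n) (R := k) (S := K)
  exact Module.Flat.isBaseChange k (MvPolynomial (Fin n) k) K (MvPolynomial (Fin n) K)
    (inferInstance : Algebra.IsPushout k (MvPolynomial (Fin n) k) K (MvPolynomial (Fin n) K)).out

/-- Localisations of Gorenstein rings are Gorenstein. -/
theorem isGorensteinRing_of_isLocalization {R L : Type u} [CommRing R] [CommRing L] [Algebra R L]
    (M : Submonoid R) [IsLocalization M L] (h : LocCoh.IsGorensteinRing R) : LocCoh.IsGorensteinRing L :=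
  haveI : IsNoetherianRing R := h.toIsNoetherian
  haveI : IsNoetherianRing L := IsLocalization.isNoetherianRing M L inferInstance
  { isGorensteinLocalRing_localization := fun P _ => by
      haveI := h.isGorensteinLocalRing_localization (P.comap (algebraMap R L))
      haveI := IsLocalization.isLocalization_isLocalization_atPrime_isLocalization M (Localization.AtPrime P) P
      exact (gorenstein_congr (IsLocalization.algEquiv (P.comap (algebraMap R L)).primeCompl
        (Localization.AtPrime (P.comap (algebraMap R L))) (Localization.AtPrime P)).toRingEquiv).1 inferInstance }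

/-- A finitely generated field extension is a fraction field of a finite type subalgebra. -/
theorem exists_subalgebra_of_fg {k k' : Type u} [Field k] [Field k'] [Algebra k k']
    (hfg : ∃ s : Finset k', IntermediateField.adjoin k (s : Set k') = ⊤) :
    ∃ C : Subalgebra k k', Algebra.FiniteType k C ∧ IsFractionRing C k' := by
  classical
  obtain ⟨s, hs⟩ := hfg
  let v : Fin s.card → k' := fun i => (s.equivFin.symm i : k')
  let α₀ : MvPolynomial (Fin s.card) k →ₐ[k] k' := MvPolynomial.aeval v
  refine ⟨α₀.range, Algebra.FiniteType.of_surjective α₀.rangeRestrict α₀.rangeRestrict_surjective,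
    IsFractionRing.of_field _ k' fun x => ?_⟩
  have hx : x ∈ IntermediateField.adjoin k (Set.range v) := by
    have hv : Set.range v = (s : Set k') := by
      ext y
      exact ⟨fun ⟨i, hi⟩ => hi ▸ (s.equivFin.symm i).2, fun hy => ⟨s.equivFin ⟨y, hy⟩, by simp [v]⟩⟩
    rw [hv, hs]; trivial
  obtain ⟨r, t, hrt⟩ := (IntermediateField.mem_adjoin_range_iff k v x).1 hx
  exact ⟨⟨α₀ r, r, rfl⟩, ⟨α₀ t, t, rfl⟩, hrt⟩

/-- If `k'/k` is a finitely generated field extension and `K/k` any field extension, the local rings of
`K ⊗ k'` are Gorenstein. -/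
theorem isGorensteinRing_tensor_of_fg (k K k' : Type u) [Field k] [Field K] [Algebra k K] [Field k']
    [Algebra k k'] (hfg : ∃ s : Finset k', IntermediateField.adjoin k (s : Set k') = ⊤) :
    LocCoh.IsGorensteinRing (K ⊗[k] k') := by
  obtain ⟨C, hC, _⟩ := exists_subalgebra_of_fg hfg
  obtain ⟨n, α, hα⟩ := Algebra.FiniteType.iff_quotient_mvPolynomial''.mp hC
  letI : Algebra C (K ⊗[k] C) := Algebra.TensorProduct.rightAlgebra
  haveI : IsScalarTower k C (K ⊗[k] C) := Algebra.TensorProduct.right_isScalarTower
  haveI : Algebra.IsPushout k C K (K ⊗[k] C) := Algebra.IsPushout.symm inferInstance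
  obtain ⟨β, hβ, hker, hcomm⟩ := LCI6.ker_aeval_baseChange (A' := K) (B' := K ⊗[k] C) α hα
  let φ : K ⊗[k] C →ₐ[K] K ⊗[k] k' :=
    Algebra.TensorProduct.map (AlgHom.id K K) (IsScalarTower.toAlgHom k C k')
  letI : Algebra (K ⊗[k] C) (K ⊗[k] k') := φ.toRingHom.toAlgebra
  haveI : IsScalarTower K (K ⊗[k] C) (K ⊗[k] k') := IsScalarTower.of_algebraMap_eq fun x => (φ.commutes x).symm
  haveI : IsLocalization ((nonZeroDivisors C).map (Algebra.TensorProduct.includeRight (R := k) (A := K)))
      (K ⊗[k] k') := IsLocalization.tensorProduct_tensorProduct_right k K (nonZeroDivisors C) k' (by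
    ext c
    show φ (1 ⊗ₜ c) = (1 : K) ⊗ₜ algebraMap C k' c
    simp [φ])
  set M := (nonZeroDivisors C).map (Algebra.TensorProduct.includeRight (R := k) (A := K)) with hM
  haveI : IsNoetherianRing (K ⊗[k] C) := isNoetherianRing_of_surjective _ _ β.toRingHom hβ
  haveI : IsNoetherianRing (K ⊗[k] k') := IsLocalization.isNoetherianRing M _ inferInstance
  refine { isGorensteinLocalRing_localization := fun P _ => ?_ }
  let q := P.comap (algebraMap (K ⊗[k] C) (K ⊗[k] k'))
  haveI := IsLocalization.isLocalization_isLocalization_atPrime_isLocalization M (Localization.AtPrime P) P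
  suffices h : LocCoh.IsGorensteinLocalRing (Localization.AtPrime q) from
    (gorenstein_congr (IsLocalization.algEquiv q.primeCompl
      (Localization.AtPrime q) (Localization.AtPrime P)).toRingEquiv).1 h
  refine gorenstein_atPrime_of_kRegAt (isGorensteinRing_of_isRegularRing K) β hβ q ?_
  have hq : q.comap (algebraMap C (K ⊗[k] C)) = ⊥ := by
    rw [eq_bot_iff]
    intro c hc
    by_contra hc0
    have hmem : algebraMap C (K ⊗[k] C) c ∈ M :=
      ⟨c, mem_nonZeroDivisors_of_ne_zero hc0, rfl⟩
    exact ((IsLocalization.isPrime_iff_isPrime_disjoint M (K ⊗[k] k') P).1 inferInstance).2.le_bot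
      ⟨hmem, hc⟩
  rw [hker]
  refine LCI6.KRegAt.map _ (flat_mvPolynomial_map k K _) _ ?_
  have : (q.comap β.toRingHom).comap (MvPolynomial.map (algebraMap k K)) = RingHom.ker α.toRingHom := by
    ext p
    simp only [Ideal.mem_comap, RingHom.mem_ker, AlgHom.toRingHom_eq_coe, RingHom.coe_coe]
    rw [hcomm, ← Ideal.mem_comap, hq, Ideal.mem_bot]
  rw [this]
  exact kRegAt_ker α

/-- The residue fields of a finite type algebra over a field are finitely generated extensions. -/
theorem fg_residueField (k : Type u) {C : Type u} [Field k] [CommRing C] [Algebra k C] [Algebra.FiniteType k C]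
    (p : Ideal C) [p.IsPrime] :
    ∃ s : Finset p.ResidueField, IntermediateField.adjoin k (s : Set p.ResidueField) = ⊤ := by
  classical
  obtain ⟨t, ht⟩ := (Algebra.FiniteType.out : (⊤ : Subalgebra k C).FG)
  let f : C →ₐ[k] p.ResidueField := IsScalarTower.toAlgHom k C p.ResidueField
  refine ⟨t.image f, ?_⟩
  set L := IntermediateField.adjoin k ((t.image f : Finset p.ResidueField) : Set p.ResidueField)
  have hC : ∀ c : C, algebraMap C p.ResidueField c ∈ L := fun c => by
    have h1 : c ∈ Algebra.adjoin k (t : Set C) := by rw [ht]; trivial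
    have h2 : Algebra.adjoin k (t : Set C) ≤ L.toSubalgebra.comap f :=
      Algebra.adjoin_le fun x hx => IntermediateField.subset_adjoin k _ (Finset.mem_image_of_mem f hx)
    exact h2 h1
  rw [eq_top_iff]
  intro x _
  obtain ⟨a, b, -, rfl⟩ := IsFractionRing.div_surjective (C ⧸ p) x
  obtain ⟨a, rfl⟩ := Ideal.Quotient.mk_surjective a
  obtain ⟨b, rfl⟩ := Ideal.Quotient.mk_surjective b
  exact div_mem (hC a) (hC b)

/-- The base change of a Noetherian algebra along a finitely generated field extension is Noetherian. -/
theorem isNoetherianRing_tensor_of_fg (k k' B : Type u) [Field k] [Field k'] [Algebra k k'] [CommRing B]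
    [Algebra k B] [IsNoetherianRing B] (hfg : ∃ s : Finset k', IntermediateField.adjoin k (s : Set k') = ⊤) :
    IsNoetherianRing (B ⊗[k] k') := by
  obtain ⟨C, hC, _⟩ := exists_subalgebra_of_fg hfg
  haveI : Algebra.FiniteType B (B ⊗[k] C) := inferInstance
  haveI : IsNoetherianRing (B ⊗[k] C) := Algebra.FiniteType.isNoetherianRing B _
  let φ : B ⊗[k] C →ₐ[B] B ⊗[k] k' :=
    Algebra.TensorProduct.map (AlgHom.id B B) (IsScalarTower.toAlgHom k C k')
  letI : Algebra (B ⊗[k] C) (B ⊗[k] k') := φ.toRingHom.toAlgebra
  haveI : IsScalarTower B (B ⊗[k] C) (B ⊗[k] k') := IsScalarTower.of_algebraMap_eq fun x => (φ.commutes x).symm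
  haveI : IsLocalization ((nonZeroDivisors C).map (Algebra.TensorProduct.includeRight (R := k) (A := B)))
      (B ⊗[k] k') := IsLocalization.tensorProduct_tensorProduct_right k B (nonZeroDivisors C) k' (by
    ext c
    show φ (1 ⊗ₜ c) = (1 : B) ⊗ₜ algebraMap C k' c
    simp [φ])
  exact IsLocalization.isNoetherianRing
    ((nonZeroDivisors C).map (Algebra.TensorProduct.includeRight (R := k) (A := B))) _ inferInstance

/-- Gorenstein fibres for a field extension: the relative statement at a prime. -/
theorem gorenstein_atPrime_baseChange_iff (k k' : Type u) [Field k] [Field k'] [Algebra k k']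
    (B : Type u) [CommRing B] [Algebra k B] [IsNoetherianRing B] [IsNoetherianRing (B ⊗[k] k')]
    (q : Ideal (B ⊗[k] k')) [q.IsPrime]
    (hfib : LocCoh.IsGorensteinRing ((q.comap (algebraMap B (B ⊗[k] k'))).ResidueField ⊗[k] k')) :
    LocCoh.IsGorensteinLocalRing (Localization.AtPrime q) ↔
      LocCoh.IsGorensteinLocalRing (Localization.AtPrime (q.comap (algebraMap B (B ⊗[k] k')))) := by
  rw [gorenstein_atPrime_iff (A := B) q]
  refine and_iff_left ?_
  obtain ⟨Q, ⟨e⟩⟩ := Excellent.exists_fibre_point (A := B) q
  have h := isGorensteinRing_of_ringEquiv (Algebra.TensorProduct.cancelBaseChange k B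
    (q.comap (algebraMap B (B ⊗[k] k'))).ResidueField (q.comap (algebraMap B (B ⊗[k] k'))).ResidueField k').symm.toRingEquiv hfib
  haveI := h.isGorensteinLocalRing_localization Q.asIdeal
  exact (gorenstein_congr (R := Localization.AtPrime Q.asIdeal) (S := EGA4.FibLocRing B (B ⊗[k] k') q) e).1 inferInstance

end GrothLib.GorFlat
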