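import Groth.Agent.Lib.GorFlat.Artinian
import Groth.Agent.Lib.Gor.Quotient
import Groth.Agent.Lib.GorEquiv.Basic
import Groth.Agent.Lib.DepthFlat.Basic
import Mathlib.RingTheory.KrullDimension.Regular
import Mathlib.RingTheory.Flat.FaithfullyFlat.Algebra

/-!
# The Gorenstein property in a flat local homomorphism
-/

set_option autoImplicit false
set_option linter.style.haveILetI false
universe u

open IsLocalRing TensorProduct
open scoped Pointwise

namespace GrothLib.GorFlat

section Ker

variable {A B : Type u} [CommRing A] [CommRing B] [Algebra A B] [Module.Flat A B]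

/-- For flat `A → B`, the kernel of `B → B ⊗ N`, `b ↦ b ⊗ φ 1` comes from the kernel of `φ`. -/
theorem mem_map_ker_of_tmul_eq_zero {N : Type u} [AddCommGroup N] [Module A N] (φ : A →ₗ[A] N) {b : B}
    (h : b ⊗ₜ[A] φ 1 = 0) : b ∈ Ideal.map (algebraMap A B) (LinearMap.ker φ) := by
  have hex := Module.Flat.lTensor_exact B (LinearMap.exact_subtype_ker_map φ)
  obtain ⟨y, hy⟩ := (hex (b ⊗ₜ[A] (1 : A))).1 (by rw [LinearMap.lTensor_tmul, h])
  suffices H : ∀ y, TensorProduct.rid A B ((LinearMap.ker φ).subtype.lTensor B y) ∈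
      Ideal.map (algebraMap A B) (LinearMap.ker φ) by
    have := H y
    rwa [hy, TensorProduct.rid_tmul, one_smul] at this
  intro y
  induction y using TensorProduct.induction_on with
  | zero => simp
  | tmul b k =>
    rw [LinearMap.lTensor_tmul, TensorProduct.rid_tmul, Algebra.smul_def]
    exact Ideal.mul_mem_right _ _ (Ideal.mem_map_of_mem _ k.2)
  | add y z hy hz => rw [map_add, map_add]; exact Ideal.add_mem _ hy hz

/-- The annihilator of a family in `B` is extended from its annihilator in `A`. -/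
theorem mem_map_of_forall_mul_eq_zero {n : ℕ} (x : Fin n → A) (K : Ideal A)
    (hK : ∀ a : A, (∀ i, x i * a = 0) → a ∈ K) {b : B} (h : ∀ i, algebraMap A B (x i) * b = 0) :
    b ∈ K.map (algebraMap A B) := by
  let φ : A →ₗ[A] (Fin n → A) := LinearMap.toSpanSingleton A _ x
  refine Ideal.map_mono (fun a (ha : φ a = 0) => hK a fun i => ?_) (mem_map_ker_of_tmul_eq_zero φ ?_)
  · have := congrFun ha i
    rw [mul_comm]
    simpa [φ] using this
  · rw [show φ 1 = x from one_smul A x, pi_eq_sum_univ x, TensorProduct.tmul_sum]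
    refine Finset.sum_eq_zero fun i _ => ?_
    rw [← TensorProduct.smul_tmul, Algebra.smul_def, h i, TensorProduct.zero_tmul]

theorem mem_map_of_mul_eq_zero (a : A) (K : Ideal A) (hK : ∀ c : A, a * c = 0 → c ∈ K) {b : B}
    (h : algebraMap A B a * b = 0) : b ∈ K.map (algebraMap A B) :=
  mem_map_of_forall_mul_eq_zero (fun _ : Fin 1 => a) K (fun c hc => hK c (hc 0)) fun _ => h

theorem isSMulRegular_algebraMap {x : A} (hx : IsSMulRegular A x) : IsSMulRegular B (algebraMap A B x) := by
  refine (isSMulRegular_iff_right_eq_zero_of_smul (M := B)).2 fun b hb => ?_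
  simpa using mem_map_of_mul_eq_zero x ⊥ (fun c hc => hx.right_eq_zero_of_smul hc) hb

theorem flat_quotient (J : Ideal A) : Module.Flat (A ⧸ J) (B ⧸ J.map (algebraMap A B)) := by
  let e : (A ⧸ J) ⊗[A] B ≃ₗ[A] B ⧸ J.map (algebraMap A B) :=
    (TensorProduct.comm A _ _).trans
      ((Algebra.TensorProduct.quotIdealMapEquivTensorQuot B J).symm.toLinearEquiv.restrictScalars A)
  exact Module.Flat.of_linearEquiv
    (LinearEquiv.extendScalarsOfSurjective (S := A ⧸ J) Ideal.Quotient.mk_surjective e).symm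

end Ker

theorem isLocalRing_quot {R : Type u} [CommRing R] [IsLocalRing R] {I : Ideal R} (hI : I ≤ maximalIdeal R) :
    IsLocalRing (R ⧸ I) :=
  haveI : Nontrivial (R ⧸ I) := Ideal.Quotient.nontrivial_iff.2 fun h =>
    (maximalIdeal.isMaximal R).ne_top (top_le_iff.1 (h ▸ hI))
  IsLocalRing.of_surjective' (Ideal.Quotient.mk _) Ideal.Quotient.mk_surjective

theorem mk_mem_maximalIdeal_iff {R : Type u} [CommRing R] [IsLocalRing R] {I : Ideal R} [IsLocalRing (R ⧸ I)] {r : R} :
    Ideal.Quotient.mk I r ∈ maximalIdeal (R ⧸ I) ↔ r ∈ maximalIdeal R := by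
  haveI : IsLocalHom (Ideal.Quotient.mk I) :=
    IsLocalHom.of_surjective _ Ideal.Quotient.mk_surjective
  simp only [mem_maximalIdeal, mem_nonunits_iff, isUnit_map_iff (Ideal.Quotient.mk I) r]

variable (A : Type u) [CommRing A] [IsLocalRing A] [IsNoetherianRing A]
  (B : Type u) [CommRing B] [IsLocalRing B] [IsNoetherianRing B]
  [Algebra A B] [IsLocalHom (algebraMap A B)] [Module.Flat A B]

set_option quotPrecheck false in
local notation "mB" => Ideal.map (algebraMap A B) (maximalIdeal A)

omit [IsNoetherianRing A] [IsNoetherianRing B] [Module.Flat A B] in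
theorem map_maximalIdeal_le : mB ≤ maximalIdeal B :=
  Ideal.map_le_iff_le_comap.2 fun x hx => map_nonunit (algebraMap A B) x hx

/-- The socles of `A`, `B` and the closed fibre when the first and last are cyclic. -/
theorem socCyclic_of_socCyclic [IsLocalRing (B ⧸ mB)] (hA : SocCyclic A) (hF : SocCyclic (B ⧸ mB)) :
    SocCyclic B := by
  obtain ⟨a, ha, hma, hga⟩ := hA
  obtain ⟨σ, hσ, hmσ, hgσ⟩ := hF
  obtain ⟨t, rfl⟩ := Ideal.Quotient.mk_surjective σ
  have hann : ∀ {b : B}, algebraMap A B a * b = 0 ↔ b ∈ mB := by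
    refine fun {b} => ⟨mem_map_of_mul_eq_zero a _ fun c hc => ?_, fun hb => ?_⟩
    · by_contra hc'
      exact ha ((notMem_maximalIdeal.1 hc').mul_left_eq_zero.1 hc)
    · refine Submodule.span_induction ?_ (mul_zero _) (fun x y _ _ hx hy => ?_) (fun r x _ hx => ?_) hb
      · rintro _ ⟨c, hc, rfl⟩
        rw [← map_mul, mul_comm a c, hma c hc, map_zero]
      · rw [mul_add, hx, hy, add_zero]
      · rw [smul_eq_mul, mul_left_comm, hx, mul_zero]
  have ht : t ∉ mB := fun h => hσ (Ideal.Quotient.eq_zero_iff_mem.2 h)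
  refine ⟨algebraMap A B a * t, fun h => ht (hann.1 h), fun u hu => ?_, fun z hz => ?_⟩
  · rw [mul_left_comm]
    refine hann.2 (Ideal.Quotient.eq_zero_iff_mem.1 ?_)
    rw [map_mul]
    exact hmσ _ (mk_mem_maximalIdeal_iff.2 hu)
  · obtain ⟨n, x, hx⟩ := Submodule.fg_iff_exists_fin_generating_family.1 (IsNoetherian.noetherian (maximalIdeal A))
    have hxm : ∀ i, x i ∈ maximalIdeal A := fun i => hx ▸ Submodule.subset_span (Set.mem_range_self i)
    have hz1 : z ∈ (Ideal.span {a}).map (algebraMap A B) := by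
      refine mem_map_of_forall_mul_eq_zero x _ (fun c hc => ?_) fun i =>
        hz _ (map_maximalIdeal_le A B (Ideal.mem_map_of_mem _ (hxm i)))
      obtain ⟨d, rfl⟩ := hga c fun e he => by
        rw [← hx] at he
        refine Submodule.span_induction ?_ (zero_mul _) (fun x y _ _ hx hy => ?_) (fun r x _ hx => ?_) he
        · rintro _ ⟨i, rfl⟩; exact hc i
        · rw [add_mul, hx, hy, add_zero]
        · rw [smul_eq_mul, mul_assoc, hx, mul_zero]
      exact Ideal.mem_span_singleton'.2 ⟨d, rfl⟩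
    rw [Ideal.map_span, Set.image_singleton, Ideal.mem_span_singleton'] at hz1
    obtain ⟨w, rfl⟩ := hz1
    obtain ⟨c, hc⟩ := hgσ (Ideal.Quotient.mk _ w) fun v hv => by
      obtain ⟨u, rfl⟩ := Ideal.Quotient.mk_surjective v
      rw [← map_mul]
      refine Ideal.Quotient.eq_zero_iff_mem.2 (hann.1 ?_)
      rw [← hz u (mk_mem_maximalIdeal_iff.1 hv)]
      ring
    obtain ⟨c, rfl⟩ := Ideal.Quotient.mk_surjective c
    rw [← map_mul, Ideal.Quotient.eq] at hc
    exact ⟨c, by linear_combination (hann.2 hc)⟩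

omit [Module.Flat A B] [IsLocalHom (algebraMap A B)] [IsNoetherianRing A] [IsNoetherianRing B] in
theorem mem_map_maximal_ne_zero {a : A} (ha : a ≠ 0) (c : A) (h : a * c = 0) : c ∈ maximalIdeal A := by
  by_contra hc
  exact ha ((notMem_maximalIdeal.1 hc).mul_left_eq_zero.1 h)

/-- A socle element of `A` times a socle element of the fibre is one of `B`. -/
theorem socle_mul {a : A} (ha : a ≠ 0) (hma : ∀ c ∈ maximalIdeal A, c * a = 0) {t : B}
    (ht : t ∉ mB) (hmt : ∀ u ∈ maximalIdeal B, u * t ∈ mB) :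
    algebraMap A B a * t ≠ 0 ∧ ∀ u ∈ maximalIdeal B, u * (algebraMap A B a * t) = 0 := by
  refine ⟨fun h => ht (mem_map_of_mul_eq_zero a _ (mem_map_maximal_ne_zero A ha) h), fun u hu => ?_⟩
  rw [mul_left_comm]
  refine Submodule.span_induction ?_ (mul_zero _) (fun x y _ _ hx hy => ?_) (fun r x _ hx => ?_) (hmt u hu)
  · rintro _ ⟨c, hc, rfl⟩
    rw [← map_mul, mul_comm a c, hma c hc, map_zero]
  · rw [mul_add, hx, hy, add_zero]
  · rw [smul_eq_mul, mul_left_comm, hx, mul_zero]

theorem socCyclic_fst_and_fibre [IsLocalRing (B ⧸ mB)] {a : A} (ha : a ≠ 0)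
    (hma : ∀ c ∈ maximalIdeal A, c * a = 0) {t : B} (ht : t ∉ mB)
    (hmt : ∀ u ∈ maximalIdeal B, u * t ∈ mB) (hB : SocCyclic B) :
    SocCyclic A ∧ SocCyclic (B ⧸ mB) := by
  obtain ⟨s, -, hms, hgs⟩ := hB
  obtain ⟨hs1, hs2⟩ := socle_mul A B ha hma ht hmt
  obtain ⟨c0, hc0⟩ := hgs _ hs2
  have hc0u : IsUnit c0 := by
    by_contra h
    exact hs1 (hc0.trans (hms c0 h))
  obtain ⟨c0, rfl⟩ := hc0u
  have hgen : ∀ z : B, (∀ u ∈ maximalIdeal B, u * z = 0) → ∃ e, z = e * (algebraMap A B a * t) := fun z hz => by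
    obtain ⟨c, rfl⟩ := hgs z hz
    exact ⟨c * ↑c0⁻¹, by rw [hc0, mul_assoc, Units.inv_mul_cancel_left]⟩
  refine ⟨⟨a, ha, hma, fun z hz => ?_⟩, ⟨Ideal.Quotient.mk _ t, fun h => ht (Ideal.Quotient.eq_zero_iff_mem.1 h), ?_, fun z hz => ?_⟩⟩
  · by_contra! hz'
    obtain ⟨e, he⟩ := hgen (algebraMap A B z * t) (by
      rcases eq_or_ne z 0 with rfl | hz0
      · simp
      · exact (socle_mul A B hz0 hz ht hmt).2)
    refine ht (Ideal.map_mono ?_ (mem_map_ker_of_tmul_eq_zero
      ((Ideal.span {a}).mkQ ∘ₗ LinearMap.toSpanSingleton A A z) (b := t) ?_))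
    · intro c (hc : (Ideal.span {a}).mkQ (c • z) = 0)
      rw [Submodule.mkQ_apply, Submodule.Quotient.mk_eq_zero, Ideal.mem_span_singleton'] at hc
      obtain ⟨d, hd⟩ := hc
      by_contra hcu
      obtain ⟨v, hv⟩ := notMem_maximalIdeal.1 hcu
      refine hz' (↑v⁻¹ * d) ?_
      rw [mul_assoc, hd, ← hv, smul_eq_mul, Units.inv_mul_cancel_left]
    · have h1 : ((Ideal.span {a}).mkQ ∘ₗ LinearMap.toSpanSingleton A A z) 1 =
          z • (Ideal.span {a}).mkQ (1 : A) := by
        rw [LinearMap.comp_apply, LinearMap.toSpanSingleton_apply_one, ← map_smul, smul_eq_mul, mul_one]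
      rw [h1, ← TensorProduct.smul_tmul, Algebra.smul_def, he,
        show e * (algebraMap A B a * t) = a • (e * t) by rw [Algebra.smul_def]; ring,
        TensorProduct.smul_tmul, ← map_smul, smul_eq_mul, mul_one,
        show (Ideal.span {a}).mkQ a = 0 from (Submodule.Quotient.mk_eq_zero _).2 (Ideal.mem_span_singleton_self a),
        TensorProduct.tmul_zero]
  · intro v hv
    obtain ⟨u, rfl⟩ := Ideal.Quotient.mk_surjective v
    rw [← map_mul]
    exact Ideal.Quotient.eq_zero_iff_mem.2 (hmt u (mk_mem_maximalIdeal_iff.1 hv))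
  · obtain ⟨w, rfl⟩ := Ideal.Quotient.mk_surjective z
    by_cases hw : w ∈ mB
    · exact ⟨0, by rw [Ideal.Quotient.eq_zero_iff_mem.2 hw, zero_mul]⟩
    have hmw : ∀ u ∈ maximalIdeal B, u * w ∈ mB := fun u hu => by
      have := hz _ (mk_mem_maximalIdeal_iff.2 hu)
      rwa [← map_mul, Ideal.Quotient.eq_zero_iff_mem] at this
    obtain ⟨e, he⟩ := hgen _ (socle_mul A B ha hma hw hmw).2
    refine ⟨Ideal.Quotient.mk _ e, ?_⟩
    rw [← map_mul, Ideal.Quotient.eq]
    exact mem_map_of_mul_eq_zero a _ (mem_map_maximal_ne_zero A ha) (by linear_combination he)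

/-- The case where neither `A` nor the fibre has a regular element in its maximal ideal. -/
theorem iff_of_no_regular [IsLocalRing (B ⧸ mB)] (hA : ∀ x ∈ maximalIdeal A, ¬ IsSMulRegular A x)
    (hF : ∀ x ∈ maximalIdeal (B ⧸ mB), ¬ IsSMulRegular (B ⧸ mB) x) :
    LocCoh.IsGorensteinLocalRing B ↔
      (LocCoh.IsGorensteinLocalRing A ∧ LocCoh.IsGorensteinLocalRing (B ⧸ mB)) := by
  obtain ⟨a, ha, hma⟩ := exists_socle_of_no_regular hA
  obtain ⟨σ, hσ, hmσ⟩ := exists_socle_of_no_regular hF
  obtain ⟨t, rfl⟩ := Ideal.Quotient.mk_surjective σ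
  have ht : t ∉ mB := fun h => hσ (Ideal.Quotient.eq_zero_iff_mem.2 h)
  have hmt : ∀ u ∈ maximalIdeal B, u * t ∈ mB := fun u hu => Ideal.Quotient.eq_zero_iff_mem.1 (by
    rw [map_mul]; exact hmσ _ (mk_mem_maximalIdeal_iff.2 hu))
  constructor
  · intro h
    haveI := Gor.isCohenMacaulayLocalRing B
    haveI := isArtinianRing_of_socle (socle_mul A B ha hma ht hmt).1 (socle_mul A B ha hma ht hmt).2
    haveI : IsArtinianRing (B ⧸ mB) := Ideal.Quotient.mk_surjective.isArtinianRing
    haveI : Module.FaithfullyFlat A B := Module.FaithfullyFlat.of_flat_of_isLocalHom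
    haveI : IsArtinianRing A := (StrictMono.wellFoundedLT (f := Ideal.map (algebraMap A B))
      (Monotone.strictMono_of_injective (fun _ _ h => Ideal.map_mono h)
        (Function.LeftInverse.injective (g := Ideal.comap (algebraMap A B)) Ideal.comap_map_eq_self_of_faithfullyFlat)) : WellFoundedLT (Ideal A))
    obtain ⟨h1, h2⟩ := socCyclic_fst_and_fibre A B ha hma ht hmt socCyclic_of_gorenstein
    exact ⟨gorenstein_of_socCyclic h1, gorenstein_of_socCyclic h2⟩
  · rintro ⟨h1, h2⟩
    haveI := Gor.isCohenMacaulayLocalRing A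
    haveI := Gor.isCohenMacaulayLocalRing (B ⧸ mB)
    haveI := isArtinianRing_of_socle ha hma
    haveI := isArtinianRing_of_socle hσ hmσ
    haveI : IsArtinianRing B := by
      rw [isArtinianRing_iff_isNilpotent_maximalIdeal B]
      obtain ⟨n, hn⟩ := (isArtinianRing_iff_isNilpotent_maximalIdeal A).1 inferInstance
      obtain ⟨k, hk⟩ := (isArtinianRing_iff_isNilpotent_maximalIdeal (B ⧸ mB)).1 inferInstance
      have h3 : maximalIdeal B ^ k ≤ mB := by
        have : (maximalIdeal B ^ k).map (Ideal.Quotient.mk mB) ≤ ⊥ := by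
          rw [Ideal.map_pow, ← Ideal.zero_eq_bot, ← hk]
          refine Ideal.pow_right_mono ?_ k
          exact Ideal.map_le_iff_le_comap.2 fun u hu => mk_mem_maximalIdeal_iff.2 hu
        exact fun x hx => Ideal.Quotient.eq_zero_iff_mem.1 (Ideal.mem_bot.1 (this (Ideal.mem_map_of_mem _ hx)))
      refine ⟨k * n, le_bot_iff.1 ?_⟩
      rw [pow_mul]
      refine (Ideal.pow_right_mono h3 n).trans (le_of_eq ?_)
      rw [← Ideal.map_pow, hn, Ideal.zero_eq_bot, Ideal.map_bot]
    exact gorenstein_of_socCyclic (socCyclic_of_socCyclic A B socCyclic_of_gorenstein socCyclic_of_gorenstein)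

end GrothLib.GorFlat

namespace GrothLib.GorFlat

theorem exists_le_of_succ {a b : WithBot ℕ∞} {n : ℕ} (h1 : a + 1 = b) (h2 : b = n) (ha : a ≠ ⊥) :
    ∃ k : ℕ, a = k ∧ k + 1 = n := by
  subst h1
  induction a with
  | bot => exact absurd rfl ha
  | coe a =>
    induction a using ENat.recTopCoe with
    | top => exact absurd (WithBot.coe_inj.1 h2) (ENat.top_ne_natCast _)
    | coe a => exact ⟨a, rfl, by exact_mod_cast h2⟩

theorem exists_dim_nat (R : Type u) [CommRing R] [IsLocalRing R] [IsNoetherianRing R] :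
    ∃ n : ℕ, ringKrullDim R = n := by
  generalize h : ringKrullDim R = a
  induction a with
  | bot => exact absurd h ringKrullDim_ne_bot
  | coe a =>
    induction a using ENat.recTopCoe with
    | top => exact absurd h ringKrullDim_ne_top
    | coe a => exact ⟨a, rfl⟩

theorem gorenstein_quot_iff {R : Type u} [CommRing R] [IsLocalRing R] [IsNoetherianRing R] {f : R}
    (hf : f ∈ maximalIdeal R) (hreg : IsSMulRegular R f) :
    LocCoh.IsGorensteinLocalRing (R ⧸ Ideal.span {f}) ↔ LocCoh.IsGorensteinLocalRing R :=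
  ⟨fun _ => Gor.isGorensteinLocalRing_of_quotient hf hreg, fun _ => Gor.isGorensteinLocalRing_quotient hf hreg⟩

theorem gorenstein_congr {R S : Type u} [CommRing R] [CommRing S] (e : R ≃+* S) :
    LocCoh.IsGorensteinLocalRing R ↔ LocCoh.IsGorensteinLocalRing S :=
  ⟨fun _ => GorEquiv.of_ringEquiv e, fun _ => GorEquiv.of_ringEquiv e.symm⟩

theorem isSMulRegular_fib {A B : Type u} [CommRing A] [IsLocalRing A] [CommRing B] [Algebra A B] {y : B}
    (h : IsSMulRegular (B ⧸ (maximalIdeal A).map (algebraMap A B))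
      (Ideal.Quotient.mk ((maximalIdeal A).map (algebraMap A B)) y)) :
    IsSMulRegular (DepthFlat.Fib A B B) y := by
  have hJ : ∀ J : Ideal B, J • (⊤ : Submodule B B) = J := fun J => by rw [smul_eq_mul, Ideal.mul_top]
  let e := Submodule.quotEquivOfEq _ _ (hJ ((maximalIdeal A).map (algebraMap A B)))
  intro z w hzw
  apply e.injective
  apply h
  have := congrArg e hzw
  rw [map_smul, map_smul] at this
  simpa [Algebra.smul_def] using this

/-- The dévissage, by induction on `dim A + dim B/m_A B`. -/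
theorem gorenstein_iff_aux : ∀ (n : ℕ) (A B : Type u) [CommRing A] [IsLocalRing A] [IsNoetherianRing A]
    [CommRing B] [IsLocalRing B] [IsNoetherianRing B] [Algebra A B] [IsLocalHom (algebraMap A B)]
    [Module.Flat A B] [IsLocalRing (B ⧸ (maximalIdeal A).map (algebraMap A B))] (a b : ℕ),
    ringKrullDim A = a → ringKrullDim (B ⧸ (maximalIdeal A).map (algebraMap A B)) = b → a + b = n →
    (LocCoh.IsGorensteinLocalRing B ↔ (LocCoh.IsGorensteinLocalRing A ∧
      LocCoh.IsGorensteinLocalRing (B ⧸ (maximalIdeal A).map (algebraMap A B)))) := by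
  intro n
  induction n using Nat.strong_induction_on with
  | _ n ih =>
    intro A B _ _ _ _ _ _ _ _ _ _ a b ha hb hab
    by_cases hA : ∃ x ∈ maximalIdeal A, IsSMulRegular A x
    · -- divide by a regular element of the base
      obtain ⟨x, hx, hreg⟩ := hA
      have hxB : algebraMap A B x ∈ maximalIdeal B := map_nonunit (algebraMap A B) x hx
      haveI := isLocalRing_quot (show Ideal.span {x} ≤ maximalIdeal A from (Ideal.span_singleton_le_iff_mem _).2 hx)
      have hmap : (Ideal.span {x}).map (algebraMap A B) = Ideal.span {algebraMap A B x} := by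
        rw [Ideal.map_span, Set.image_singleton]
      haveI := isLocalRing_quot (show (Ideal.span {x}).map (algebraMap A B) ≤ maximalIdeal B by
        rw [hmap]; exact (Ideal.span_singleton_le_iff_mem _).2 hxB)
      haveI : Module.Flat (A ⧸ Ideal.span {x}) (B ⧸ (Ideal.span {x}).map (algebraMap A B)) := flat_quotient _
      haveI : IsLocalHom (algebraMap (A ⧸ Ideal.span {x}) (B ⧸ (Ideal.span {x}).map (algebraMap A B))) := by
        refine ((IsLocalRing.local_hom_TFAE _).out 0 1).2 fun v hv => ?_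
        obtain ⟨w, hw, rfl⟩ := hv
        obtain ⟨c, rfl⟩ := Ideal.Quotient.mk_surjective w
        exact mk_mem_maximalIdeal_iff.2 (map_nonunit (algebraMap A B) c (mk_mem_maximalIdeal_iff.1 hw))
      have hmax : maximalIdeal (A ⧸ Ideal.span {x}) = (maximalIdeal A).map (Ideal.Quotient.mk _) :=
        (RegLoc.map_maximalIdeal_quotient (R := A) (Ideal.span {x})).symm
      let J := (maximalIdeal (A ⧸ Ideal.span {x})).map
        (algebraMap (A ⧸ Ideal.span {x}) (B ⧸ (Ideal.span {x}).map (algebraMap A B)))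
      have hJ : J = ((maximalIdeal A).map (algebraMap A B)).map
          (Ideal.Quotient.mk ((Ideal.span {x}).map (algebraMap A B))) := by
        show Ideal.map _ (maximalIdeal _) = _
        rw [hmax, Ideal.map_map, Ideal.map_map]
        rfl
      have hle : (Ideal.span {x}).map (algebraMap A B) ≤ (maximalIdeal A).map (algebraMap A B) :=
        Ideal.map_mono ((Ideal.span_singleton_le_iff_mem _).2 hx)
      let e : ((B ⧸ (Ideal.span {x}).map (algebraMap A B)) ⧸ J) ≃+*
          B ⧸ (maximalIdeal A).map (algebraMap A B) :=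
        (Ideal.quotEquivOfEq hJ).trans (DoubleQuot.quotQuotEquivQuotOfLE hle)
      haveI : IsLocalRing ((B ⧸ (Ideal.span {x}).map (algebraMap A B)) ⧸ J) := e.symm.isLocalRing
      obtain ⟨k, hk, hkn⟩ := exists_le_of_succ
        (ringKrullDim_quotient_span_singleton_succ_eq_ringKrullDim hreg hx) ha ringKrullDim_ne_bot
      have h := ih (k + b) (by omega) (A ⧸ Ideal.span {x}) (B ⧸ (Ideal.span {x}).map (algebraMap A B)) k b hk
        ((ringKrullDim_eq_of_ringEquiv e).trans hb) rfl
      rw [gorenstein_congr (Ideal.quotEquivOfEq hmap), gorenstein_quot_iff hx hreg,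
        gorenstein_quot_iff hxB (isSMulRegular_algebraMap hreg)] at h
      exact h.trans (and_congr_right' (gorenstein_congr e))
    by_cases hF : ∃ v ∈ maximalIdeal (B ⧸ (maximalIdeal A).map (algebraMap A B)),
        IsSMulRegular (B ⧸ (maximalIdeal A).map (algebraMap A B)) v
    · -- divide by a lift of a regular element of the fibre
      obtain ⟨v, hv, hreg⟩ := hF
      obtain ⟨y, rfl⟩ := Ideal.Quotient.mk_surjective v
      have hy := mk_mem_maximalIdeal_iff.1 hv
      haveI := isLocalRing_quot (show Ideal.span {y} ≤ maximalIdeal B from (Ideal.span_singleton_le_iff_mem _).2 hy)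
      have hyB : IsSMulRegular B y := (DepthFlat.regular_facts (R := A) (N := B) (isSMulRegular_fib hreg)).1
      haveI : Module.Flat A (B ⧸ Ideal.span {y}) := by
        haveI := DepthFlat.flat_quotSMulTop (R := A) (N := B) (isSMulRegular_fib hreg)
        exact Module.Flat.of_linearEquiv (((Submodule.quotEquivOfEq (y • (⊤ : Submodule B B)) (Ideal.span {y})
          (by rw [← Submodule.ideal_span_singleton_smul, smul_eq_mul, Ideal.mul_top])).restrictScalars A).symm)
      haveI : IsLocalHom (algebraMap A (B ⧸ Ideal.span {y})) := by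
        refine ((IsLocalRing.local_hom_TFAE _).out 0 1).2 fun w hw => ?_
        obtain ⟨c, hc, rfl⟩ := hw
        exact mk_mem_maximalIdeal_iff.2 (map_nonunit (algebraMap A B) c hc)
      have hJ : (maximalIdeal A).map (algebraMap A (B ⧸ Ideal.span {y})) =
          ((maximalIdeal A).map (algebraMap A B)).map (Ideal.Quotient.mk (Ideal.span {y})) := by
        rw [Ideal.map_map]
        rfl
      let e : ((B ⧸ Ideal.span {y}) ⧸ (maximalIdeal A).map (algebraMap A (B ⧸ Ideal.span {y}))) ≃+*
          (B ⧸ (maximalIdeal A).map (algebraMap A B)) ⧸ Ideal.span {Ideal.Quotient.mk _ y} :=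
        ((Ideal.quotEquivOfEq hJ).trans (DoubleQuot.quotQuotEquivComm _ _)).trans
          (Ideal.quotEquivOfEq (by rw [Ideal.map_span, Set.image_singleton]))
      haveI := isLocalRing_quot (show Ideal.span {Ideal.Quotient.mk ((maximalIdeal A).map (algebraMap A B)) y} ≤
        maximalIdeal _ from (Ideal.span_singleton_le_iff_mem _).2 hv)
      haveI : IsLocalRing ((B ⧸ Ideal.span {y}) ⧸ (maximalIdeal A).map (algebraMap A (B ⧸ Ideal.span {y}))) :=
        e.symm.isLocalRing
      obtain ⟨k, hk, hkn⟩ := exists_le_of_succ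
        (ringKrullDim_quotient_span_singleton_succ_eq_ringKrullDim hreg hv) hb ringKrullDim_ne_bot
      have h := ih (a + k) (by omega) A (B ⧸ Ideal.span {y}) a k ha
        ((ringKrullDim_eq_of_ringEquiv e).trans hk) rfl
      rwa [gorenstein_quot_iff hy hyB, gorenstein_congr e, gorenstein_quot_iff hv hreg] at h
    push Not at hA hF
    exact iff_of_no_regular A B hA hF

/-- A flat local homomorphism has Gorenstein target exactly when source and closed fibre are. -/
theorem gorenstein_flat_local_iff (A B : Type u) [CommRing A] [IsLocalRing A] [IsNoetherianRing A]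
    [CommRing B] [IsLocalRing B] [IsNoetherianRing B] [Algebra A B] [IsLocalHom (algebraMap A B)]
    [Module.Flat A B] :
    LocCoh.IsGorensteinLocalRing B ↔ (LocCoh.IsGorensteinLocalRing A ∧
      LocCoh.IsGorensteinLocalRing (B ⧸ (maximalIdeal A).map (algebraMap A B))) := by
  haveI := isLocalRing_quot (map_maximalIdeal_le A B)
  obtain ⟨a, ha⟩ := exists_dim_nat A
  obtain ⟨b, hb⟩ := exists_dim_nat (B ⧸ (maximalIdeal A).map (algebraMap A B))
  exact gorenstein_iff_aux (a + b) A B a b ha hb rfl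

end GrothLib.GorFlat
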