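import Groth.Agent.Lib.Gor.Hull
import Groth.Agent.Lib.InjMod.Matlis
import Groth.Agent.Lib.InjMod.Essential
import Groth.Agent.Lib.CMBasics.Basic

/-!
# Gorenstein Artinian local rings are those with a cyclic socle
-/

set_option autoImplicit false
set_option linter.style.haveILetI false
universe u

open IsLocalRing CategoryTheory

namespace GrothLib.GorFlat

/-- The socle of the local ring `R` is generated by one nonzero element. -/
def SocCyclic (R : Type u) [CommRing R] [IsLocalRing R] : Prop :=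
  ∃ s : R, s ≠ 0 ∧ (∀ a ∈ maximalIdeal R, a * s = 0) ∧
    ∀ z : R, (∀ a ∈ maximalIdeal R, a * z = 0) → ∃ c : R, z = c * s

variable {R : Type u} [CommRing R] [IsLocalRing R]

theorem exists_socle_of_no_regular [IsNoetherianRing R]
    (h : ∀ x ∈ maximalIdeal R, ¬ IsSMulRegular R x) :
    ∃ s : R, s ≠ 0 ∧ ∀ a ∈ maximalIdeal R, a * s = 0 := by
  obtain ⟨f, g, hfg⟩ := (CMBasics.forall_not_isSMulRegular_iff (M := R)).1 h
  obtain ⟨z, hz⟩ : ∃ z, (f - g) z ≠ 0 := by
    by_contra! h0
    exact hfg (LinearMap.ext fun z => sub_eq_zero.1 (h0 z))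
  refine ⟨(f - g) z, hz, fun a ha => ?_⟩
  rw [← smul_eq_mul, ← map_smul, show a • z = 0 from ?_, map_zero]
  obtain ⟨r, rfl⟩ := Ideal.Quotient.mk_surjective (I := maximalIdeal R) z
  exact Ideal.Quotient.eq_zero_iff_mem.2 (Ideal.mul_mem_right r _ ha)

theorem isArtinianRing_of_socle [LocCoh.IsCohenMacaulayLocalRing R] {s : R} (hs : s ≠ 0)
    (hm : ∀ a ∈ maximalIdeal R, a * s = 0) : IsArtinianRing R := by
  have hd : LocCoh.depth R R = 0 := by
    by_contra h
    obtain ⟨x, hx, hreg⟩ := (GrothLib.Depth.one_le_idealDepth_iff (M := R) (maximalIdeal.isMaximal R).ne_top).1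
      (Order.one_le_iff_ne_zero.2 h)
    exact hs (hreg.right_eq_zero_of_smul (hm x hx))
  have h0 : ringKrullDim R = 0 := by
    rw [← Module.supportDim_self_eq_ringKrullDim, LocCoh.IsCohenMacaulayLocalRing.supportDim_eq_depth, hd]
    rfl
  haveI : Ring.KrullDimLE 0 R := Ring.krullDimLE_iff.2 (by rw [h0]; rfl)
  exact isArtinianRing_iff_krullDimLE_zero.2 inferInstance

theorem socCyclic_of_gorenstein [IsArtinianRing R] [LocCoh.IsGorensteinLocalRing R] : SocCyclic R := by
  have hd : ringKrullDim R = (0 : ℕ) := ringKrullDimZero_iff_ringKrullDim_eq_zero.1 inferInstance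
  have h1 := (Gor.length_ext_residue R hd).2
  have e1 : Abelian.Ext (ModuleCat.of R (R ⧸ maximalIdeal R)) (ModuleCat.of R R) 0 ≃ₗ[R]
      ((R ⧸ maximalIdeal R) →ₗ[R] R) := (Abelian.Ext.linearEquiv₀ (R := R)).trans ModuleCat.homLinearEquiv
  rw [(e1.trans (Matlis.homQuotEquiv (maximalIdeal R) R)).length_eq] at h1
  haveI : IsSimpleModule R (LocCoh.torsionBy (maximalIdeal R) R) := Module.length_eq_one_iff.1 h1
  haveI := IsSimpleModule.nontrivial R (LocCoh.torsionBy (maximalIdeal R) R)
  obtain ⟨⟨s, hs⟩, hs0⟩ := exists_ne (0 : LocCoh.torsionBy (maximalIdeal R) R)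
  refine ⟨s, fun h => hs0 (Subtype.ext h), fun a ha => ?_, fun z hz => ?_⟩
  · exact (Submodule.mem_torsionBySet_iff _ _).1 hs ⟨a, ha⟩
  · have hz' : z ∈ LocCoh.torsionBy (maximalIdeal R) R :=
      (Submodule.mem_torsionBySet_iff _ _).2 fun a => hz a.1 a.2
    obtain ⟨c, hc⟩ := Submodule.mem_span_singleton.1
      ((IsSimpleModule.span_singleton_eq_top (R := R) hs0).symm ▸ Submodule.mem_top
        (x := (⟨z, hz'⟩ : LocCoh.torsionBy (maximalIdeal R) R)))
    exact ⟨c, (congrArg Subtype.val hc).symm⟩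

theorem gorenstein_of_socCyclic [IsArtinianRing R] (h : SocCyclic R) :
    LocCoh.IsGorensteinLocalRing R := by
  obtain ⟨s, hs, hm, hgen⟩ := h
  obtain ⟨E, _, _, i, hi⟩ := InjMod.exists_injective_hull (R := R) R
  let g : ResidueField R →ₗ[R] R := (maximalIdeal R).liftQ (LinearMap.toSpanSingleton R R s)
    fun a ha => LinearMap.mem_ker.2 (hm a ha)
  have hpt : LocCoh.IsPowerTorsion (maximalIdeal R) R := fun x => by
    obtain ⟨n, hn⟩ := IsArtinianRing.isNilpotent_jacobson_bot (R := R)
    refine ⟨n, fun a ha => ?_⟩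
    rw [IsLocalRing.jacobson_eq_maximalIdeal ⊥ bot_ne_top] at hn
    rw [hn] at ha
    simp only [Ideal.mem_bot.1 ha, zero_smul]
  have hs_mem : ∀ N : Submodule R R, N ≠ ⊥ → s ∈ N := by
    intro N hN
    obtain ⟨x, hx, hx0⟩ := N.ne_bot_iff.1 hN
    obtain ⟨a, ha, ha0⟩ := Matlis.exists_smul_mem_socle hpt hx0
    obtain ⟨c, hc⟩ := hgen (a • x) fun b hb => (Submodule.mem_torsionBySet_iff _ _).1 ha ⟨b, hb⟩
    have hcu : IsUnit c := by
      by_contra hcu
      exact ha0 (hc.trans (hm c hcu))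
    obtain ⟨c, rfl⟩ := hcu
    rw [show s = (↑c⁻¹ : R) • (a • x) by rw [hc, smul_eq_mul, ← mul_assoc, Units.inv_mul, one_mul]]
    exact N.smul_mem _ (N.smul_mem _ hx)
  have hf : InjHull.IsInjectiveHull (i ∘ₗ g) :=
    { injective := hi.injective.comp (by
        rw [injective_iff_map_eq_zero]
        intro z hz
        obtain ⟨r, rfl⟩ := Ideal.Quotient.mk_surjective (I := maximalIdeal R) z
        refine Ideal.Quotient.eq_zero_iff_mem.2 ?_
        by_contra hr
        exact hs ((IsLocalRing.notMem_maximalIdeal.1 hr).mul_right_eq_zero.1 hz))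
      essential := fun N hN => by
        obtain ⟨w, hw, ⟨r, rfl⟩, hw0⟩ := (Submodule.ne_bot_iff _).1 (hi.essential N hN) |>.imp
          fun w hw => (⟨hw.1.1, hw.1.2, hw.2⟩ : _ ∧ _ ∧ _)
        have h1 : N.comap i ≠ ⊥ := (Submodule.ne_bot_iff _).2 ⟨r, hw, fun h => hw0 (by rw [h, map_zero])⟩
        refine (Submodule.ne_bot_iff _).2 ⟨i s, ⟨hs_mem _ h1, ⟨Ideal.Quotient.mk _ 1, ?_⟩⟩, fun h => hs (hi.injective (by rw [h, map_zero]))⟩
        show i (LinearMap.toSpanSingleton R R s 1) = i s
        rw [LinearMap.toSpanSingleton_apply_one]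
      isInjective := hi.isInjective }
  have hlen : Module.length R E = Module.length R R := by
    rw [← (LinearMap.ringLmapEquivSelf R R E).length_eq]
    exact Matlis.length_linearMap hf (isFiniteLength_iff_isNoetherian_isArtinian.2 ⟨inferInstance, inferInstance⟩)
  have hfl : IsFiniteLength R E := Module.length_ne_top_iff.1 (by
    rw [hlen]
    exact Module.length_ne_top_iff.2 (isFiniteLength_iff_isNoetherian_isArtinian.2 ⟨inferInstance, inferInstance⟩))
  obtain ⟨_, _⟩ := isFiniteLength_iff_isNoetherian_isArtinian.1 hfl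
  have htop : LinearMap.range i = ⊤ := by
    by_contra h
    have := Submodule.length_lt h
    rw [← (LinearEquiv.ofInjective i hi.injective).length_eq, hlen] at this
    exact lt_irrefl _ this
  haveI hE := hi.isInjective
  haveI : Module.Injective R R := InjMod.injective_of_linearEquiv
    (LinearEquiv.ofBijective i ⟨hi.injective, LinearMap.range_eq_top.1 htop⟩) hE
  haveI : CategoryTheory.Injective (ModuleCat.of R R) := Module.injective_object_of_injective_module R R
  exact { exists_hasInjectiveDimensionLT := ⟨1, injective_iff_hasInjectiveDimensionLT_one.1 inferInstance⟩ }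

end GrothLib.GorFlat
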