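import Groth.Agent.Lib.GorFlat.Rings
import Groth.Agent.Lib.GeomReg.Comp

/-!
# Gorenstein fibres and composition with regular maps
-/

set_option autoImplicit false
set_option linter.style.haveILetI false
universe u

open IsLocalRing TensorProduct

namespace GrothLib.GorFlat

/-- A regular algebra over a Gorenstein ring, base changed: Gorenstein. -/
theorem isGorensteinRing_tensor_of_isRegularHom {B C : Type u} [CommRing B] [CommRing C] [Algebra B C]
    (h : CAlg.IsRegularHom B C) (B' : Type u) [CommRing B'] [Algebra B B'] [Algebra.EssFiniteType B B']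
    (hB' : LocCoh.IsGorensteinRing B') [IsNoetherianRing (B' ⊗[B] C)] :
    LocCoh.IsGorensteinRing (B' ⊗[B] C) := by
  haveI : IsNoetherianRing B' := hB'.toIsNoetherian
  haveI := h.1
  refine { isGorensteinLocalRing_localization := fun P _ =>
    (gorenstein_atPrime_iff (A := B') P).2 ⟨hB'.isGorensteinLocalRing_localization _, ?_⟩ }
  let Q := P.comap (algebraMap B' (B' ⊗[B] C))
  haveI : Algebra.EssFiniteType B Q.ResidueField := .comp B B' _
  haveI := GeomReg.isRegularRing_field_tensor h Q.ResidueField
  haveI : IsRegularRing (Q.Fiber (B' ⊗[B] C)) := IsRegularRing.of_ringEquiv (R := Q.ResidueField ⊗[B] C)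
    (Algebra.TensorProduct.cancelBaseChange B B' B' Q.ResidueField C).symm.toRingEquiv
  haveI := Excellent.isRegularLocalRing_fibLocRing (A := B') P inferInstance
  exact gorenstein_of_isRegularLocalRing _

/-- Composition with a regular map preserves Gorenstein fibres. -/
theorem isGorensteinRing_fiber_comp {A B C : Type u} [CommRing A] [CommRing B] [CommRing C] [Algebra A B]
    [Algebra B C] [Algebra A C] [IsScalarTower A B C] [IsNoetherianRing C]
    (q : Ideal A) [q.IsPrime] (hAB : LocCoh.IsGorensteinRing (q.Fiber B)) (hBC : CAlg.IsRegularHom B C) :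
    LocCoh.IsGorensteinRing (q.Fiber C) := by
  let e : q.Fiber C ≃+* (B ⊗[A] q.ResidueField) ⊗[B] C :=
    (Algebra.TensorProduct.comm A q.ResidueField C).toRingEquiv.trans
      ((Algebra.TensorProduct.cancelBaseChange A B C C q.ResidueField).symm.toRingEquiv.trans
        (Algebra.TensorProduct.comm B C (B ⊗[A] q.ResidueField)).toRingEquiv)
  haveI : Algebra.EssFiniteType A q.ResidueField := inferInstance
  haveI : Algebra.EssFiniteType B (B ⊗[A] q.ResidueField) := inferInstance
  haveI : IsNoetherianRing (C ⊗[A] q.ResidueField) := Algebra.EssFiniteType.isNoetherianRing C _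
  haveI : IsNoetherianRing (q.Fiber C) :=
    isNoetherianRing_of_ringEquiv (C ⊗[A] q.ResidueField) (Algebra.TensorProduct.comm A C q.ResidueField).toRingEquiv
  haveI : IsNoetherianRing ((B ⊗[A] q.ResidueField) ⊗[B] C) := isNoetherianRing_of_ringEquiv _ e
  exact isGorensteinRing_of_ringEquiv e.symm (isGorensteinRing_tensor_of_isRegularHom hBC _
    (isGorensteinRing_of_ringEquiv (Algebra.TensorProduct.comm A q.ResidueField B).toRingEquiv hAB))

end GrothLib.GorFlat
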