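import Groth.Agent.Lib.GorFlat.Rings
import Mathlib.AlgebraicGeometry.Noetherian
import Mathlib.AlgebraicGeometry.AffineScheme

/-! # Gorenstein affine opens -/

set_option autoImplicit false
set_option linter.style.haveILetI false
universe u

open CategoryTheory AlgebraicGeometry

namespace GrothLib.GorFlat

variable {X : Scheme.{u}} {V : X.Opens} (hV : IsAffineOpen V)
include hV

/-- An affine open of a scheme with Gorenstein local rings has a Gorenstein ring of sections. -/
theorem isGorensteinRing_of_stalks [IsLocallyNoetherian X]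
    (h : ∀ x ∈ V, LocCoh.IsGorensteinLocalRing (X.presheaf.stalk x)) : LocCoh.IsGorensteinRing Γ(X, V) :=
  haveI : IsNoetherianRing Γ(X, V) := IsLocallyNoetherian.component_noetherian ⟨V, hV⟩
  { isGorensteinLocalRing_localization := fun p hp => (gorenstein_congr
      ((asIso (hV.fromSpec.stalkMap ⟨p, hp⟩)).commRingCatIsoToRingEquiv.trans
        (StructureSheaf.stalkIso Γ(X, V) ⟨p, hp⟩).symm.toRingEquiv)).1
          (h _ (show hV.fromSpec ⟨p, hp⟩ ∈ (V : Set X) by rw [← hV.range_fromSpec]; exact ⟨_, rfl⟩)) }

/-- The local rings on an affine open with a Gorenstein ring of sections. -/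
theorem stalk_of_isGorensteinRing (h : LocCoh.IsGorensteinRing Γ(X, V)) {x : X} (hx : x ∈ V) :
    LocCoh.IsGorensteinLocalRing (X.presheaf.stalk x) := by
  obtain ⟨p, rfl⟩ : x ∈ Set.range hV.fromSpec := hV.range_fromSpec ▸ hx
  exact (gorenstein_congr ((asIso (hV.fromSpec.stalkMap p)).commRingCatIsoToRingEquiv.trans
    (StructureSheaf.stalkIso Γ(X, V) p).symm.toRingEquiv)).2 (h.isGorensteinLocalRing_localization p.asIdeal)

end GrothLib.GorFlat
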